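import Mathlib
import Cfsg.Agent.Lib.SubA8.Ord
import Cfsg.Agent.Lib.M24E.Tools
import Cfsg.Agent.Lib.M24E.Classes

/-!
Elements of order 5, 7, 11, 23 of `M24`: fixed points, centralizers, normalizers.
-/

set_option autoImplicit false

namespace CfsgLib.MSub

open Cfsg CfsgLib.M24E CfsgLib.Golay CfsgLib.SubA8 Subgroup MulAction
open scoped Pointwise

theorem conj_zp {G : Type*} [Group G] [Finite G] {x y : G} {p : ℕ} [Fact p.Prime] (hx : orderOf x = p)
    (hy : orderOf y = p) (h : ¬ p ^ 2 ∣ Nat.card G) : ∃ g, zpowers (g * x * g⁻¹) = zpowers y := by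
  obtain ⟨P, hP⟩ := syl hx h
  obtain ⟨Q, hQ⟩ := syl hy h
  obtain ⟨g, rfl⟩ := exists_smul_eq G P Q
  exact ⟨g, by
    rw [← hQ, Sylow.coe_subgroup_smul, hP]
    exact (MonoidHom.map_zpowers (MulAut.conj g).toMonoidHom x).symm⟩

theorem exists_conj_le {G : Type*} [Group G] [Finite G] {H Q : Subgroup G} (hH : Odd H.index) (hQ : IsPGroup 2 Q) :
    ∃ g : G, ∀ q ∈ Q, g⁻¹ * q * g ∈ H := by
  obtain ⟨R, hR⟩ := hQ.exists_le_sylow
  obtain ⟨S⟩ : Nonempty (Sylow 2 H) := inferInstance
  let P := (S.isPGroup'.map H.subtype).toSylow (by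
    rw [index_map_subtype]
    exact Nat.prime_two.not_dvd_mul S.not_dvd_index hH.not_two_dvd_nat)
  obtain ⟨g, rfl⟩ := exists_smul_eq G P R
  refine ⟨g, fun q hq => map_subtype_le (S : Subgroup H) ?_⟩
  have : g⁻¹ * q * g ∈ (P : Subgroup G) := by simpa using mem_pointwise_smul_iff_inv_smul_mem.1 (hR hq)
  exact this

theorem card_norm_dvd' {G G' : Type*} [Group G] [Group G'] {f : G →* G'} (hf : Function.Injective f) (x : G) :
    Nat.card (normalizer (zpowers x : Set G)) ∣ Nat.card (normalizer (zpowers (f x) : Set G')) := by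
  rw [← card_map_of_injective hf, ← MonoidHom.map_zpowers]
  exact card_dvd_of_le (le_normalizer_map f)

theorem card_cen_dvd {G G' : Type*} [Group G] [Group G'] {f : G →* G'} (hf : Function.Injective f) (x : G) :
    Nat.card (centralizer ({x} : Set G)) ∣ Nat.card (centralizer ({f x} : Set G')) := by
  rw [← card_map_of_injective hf]
  refine card_dvd_of_le ?_
  rintro _ ⟨c, hc, rfl⟩
  rw [mem_centralizer_singleton_iff, ← map_mul, mem_centralizer_singleton_iff.1 hc, map_mul]

/-- the element of `M24` with code `q` -/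
noncomputable def el (q : ℕ) (h : isM q = true := by decide +kernel) : M24 := ⟨pm q, pm_mem h⟩

theorem ord_el {q p : ℕ} (hq : isM q = true) (hp : p.Prime) (h1 : powId (ap q) p = true) (h2 : isId (ap q) = false) :
    orderOf (el q hq) = p := by rw [← Subgroup.orderOf_coe]; exact orderOf_pm hp hq h1 h2

theorem fix_of_mem {x y : M24} (h : x ∈ zpowers y) : fixS y ⊆ fixS x := fun p hp => by
  obtain ⟨k, rfl⟩ := h
  exact mem_fixS.2 (Equiv.Perm.zpow_apply_eq_self_of_apply_eq_self (mem_fixS.1 hp) k)

theorem card_fix {q p : ℕ} (hq : isM q = true) (hp : p.Prime) (h1 : powId (ap q) p = true) (h2 : isId (ap q) = false)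
    (h : ¬ p ^ 2 ∣ 244823040) {x : M24} (hx : orderOf x = p) : (fixS x).card = pc (fixM (ap q)) := by
  have := Fact.mk hp
  obtain ⟨g, e⟩ := conj_zp hx (ord_el hq hp h1 h2) (by rwa [card_M24])
  rw [← (pm_rp hq).card_fixS, ← Finset.card_smul_finset (g : P24), ← fixS_conj]
  exact congrArg _ ((fix_of_mem (e.le (mem_zpowers _))).antisymm' (fix_of_mem (e.ge (mem_zpowers _))))

def q5 : ℕ := 0x22ead9b1c57dae11c907851268a840
def q11 : ℕ := 0xba07225593008f68aa8f325c12b570
def q23 : ℕ := 0xb82d5a4e5183dcd62d4941cc520c41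

theorem isM_q11 : isM q11 = true := by decide +kernel
theorem isM_q23 : isM q23 = true := by decide +kernel
theorem ord_q11 : orderOf (el q11 isM_q11) = 11 := ord_el _ (by norm_num) (by decide +kernel) (by decide +kernel)
theorem ord_q23 : orderOf (el q23 isM_q23) = 23 := ord_el _ (by norm_num) (by decide +kernel) (by decide +kernel)

theorem fix5 {x : M24} (hx : orderOf x = 5) : (fixS x).card = 4 :=
  (card_fix (q := q5) (by decide +kernel) (by norm_num) (by decide +kernel) (by decide +kernel) (by norm_num) hx).trans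
    (by decide +kernel)
theorem fix7 {x : M24} (hx : orderOf x = 7) : (fixS x).card = 3 :=
  (card_fix isM_q7a (by norm_num) (by decide +kernel) (by decide +kernel) (by norm_num) hx).trans (by decide +kernel)
theorem fix11 {x : M24} (hx : orderOf x = 11) : (fixS x).card = 2 :=
  (card_fix isM_q11 (by norm_num) (by decide +kernel) (by decide +kernel) (by norm_num) hx).trans (by decide +kernel)

theorem card_cen' {q v vi p : ℕ} (hq : isM q = true) (hB : chkB v vi = true) (hp : p.Prime)
    (ho : orderOf (el q hq) = p) (h : ¬ p ^ 2 ∣ 244823040) {x : M24} (hx : orderOf x = p) :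
    Nat.card (centralizer ({x} : Set M24)) =
      csearch vi (okI (ap v) (ap q) (ap q)) fun φ => intw φ (ap q) (ap q) := by
  have := Fact.mk hp
  obtain ⟨g, e⟩ := conj_zp hx ho (by rwa [card_M24])
  rw [← card_of_search hB (sound_okI (chkB_lt hB) (pm_rp hq) (pm_rp hq) fun _ _ h => h)
    fun g _ φ hφ => hφ.intw_iff (pm_rp hq) (pm_rp hq), ← card_subgroup_eq (centralizer ({el q hq} : Set M24))
      (P := fun g => g * pm q = pm q * g) fun g => by rw [mem_centralizer_singleton_iff, Subtype.ext_iff]; rfl,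
    ← SmallSimple.centralizer_zpowers (el q hq), ← e, SmallSimple.centralizer_zpowers]
  refine Nat.dvd_antisymm (card_cen_dvd (f := (MulAut.conj g).toMonoidHom) (MulAut.conj g).injective x) ?_
  simpa [mul_assoc] using card_cen_dvd (f := (MulAut.conj g⁻¹).toMonoidHom) (MulAut.conj g⁻¹).injective (g * x * g⁻¹)

theorem cen11 {x : M24} (hx : orderOf x = 11) : Nat.card (centralizer ({x} : Set M24)) = 11 :=
  (card_cen' isM_q11 (v := 0x5d6e8498b663e4753a83889a124e00) (vi := 0xac2c9134e1728afbae7464a2341880)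
    (by decide +kernel) (by norm_num) ord_q11 (by norm_num) hx).trans (by decide +kernel)
theorem cen23 {x : M24} (hx : orderOf x = 23) : Nat.card (centralizer ({x} : Set M24)) = 23 :=
  (card_cen' isM_q23 chkB_id (by norm_num) ord_q23 (by norm_num) hx).trans (by decide +kernel)

/-- Sylow count for `p = 11, 23` in a subgroup of `M24` -/
theorem norm_form {K : Type*} [Group K] [Finite K] {f : K →* M24} (hf : Function.Injective f) {p : ℕ}
    (hp : p = 11 ∨ p = 23) {x : K} (hx : orderOf x = p) : ∃ n e, n % p = 1 ∧ e ∣ p - 1 ∧ n * (p * e) = Nat.card K ∧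
      Nat.card (normalizer (zpowers x : Set K)) = p * e := by
  have : Fact p.Prime := ⟨by rcases hp with rfl | rfl <;> norm_num⟩
  obtain ⟨n, e, h1, h2, h3, h4, h5, -⟩ := norm_eq hx fun h => absurd (h.trans (card_dvd_of_injective f hf)) (by
    rw [card_M24]; rcases hp with rfl | rfl <;> norm_num)
  have h6 := card_cen_dvd hf x
  have h7 : orderOf (f x) = p := by rw [orderOf_injective f hf, hx]
  rw [show Nat.card (centralizer ({f x} : Set M24)) = p by rcases hp with rfl | rfl; exacts [cen11 h7, cen23 h7]] at h6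
  rw [Nat.dvd_antisymm h6 h5] at h4
  exact ⟨n, e, h1, h2, h4 ▸ h3, h4.symm⟩

theorem card_mod {x : M24} {p : ℕ} (hp : p.Prime) (hx : orderOf x = p) {s : Finset GolayPt} (h : x • s = s) :
    (s ∩ fixS x).card ≡ s.card [MOD p] := by
  have := Fact.mk hp
  have h1 : ∀ a, (x : P24) a ∈ s ↔ a ∈ s := fun a => by
    conv_lhs => rw [← h]
    exact smul_mem_smul' _
  have h2 := Equiv.Perm.card_compl_support_modEq (p := p) (n := 1)
    (σ := ((x : P24).subtypePerm h1 : Equiv.Perm s)) (by
      simp only [pow_one, Equiv.Perm.subtypePerm_pow, ← Subgroup.coe_pow, ← hx, pow_orderOf_eq_one]; rfl)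
  rw [Fintype.card_coe, ← Finset.card_map (Function.Embedding.subtype _)] at h2
  convert h2 using 2
  ext a
  simp [mem_fixS, Subtype.ext_iff, and_comm]

theorem fix_of_small {x : M24} {p : ℕ} (hp : p.Prime) (hx : orderOf x = p) {s : Finset GolayPt} (h : x • s = s)
    (hs : s.card < p) : s ⊆ fixS x := by
  have h1 := Finset.card_le_card (Finset.inter_subset_left (s₁ := s) (s₂ := fixS x))
  exact Finset.inter_eq_left.1 (Finset.eq_of_subset_of_card_le Finset.inter_subset_left
    (Nat.ModEq.eq_of_lt_of_lt (card_mod hp hx h) (by omega) hs).ge)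

theorem exists_ord (K : Subgroup M24) {p : ℕ} (hp : p.Prime) (h : p ∣ Nat.card K) : ∃ x ∈ K, orderOf x = p := by
  have := Fact.mk hp
  obtain ⟨x, hx⟩ := exists_prime_orderOf_dvd_card' p h
  exact ⟨x, x.2, by rw [Subgroup.orderOf_coe, hx]⟩

/-- the orbit of a point, as a finite set -/
noncomputable def orb (K : Subgroup M24) (a : GolayPt) : Finset GolayPt := (Set.toFinite (orbit K a)).toFinset

theorem mem_orb {K : Subgroup M24} {a b : GolayPt} : b ∈ orb K a ↔ ∃ g ∈ K, g • a = b := by
  simp [orb, mem_orbit_iff, Subgroup.smul_def]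

theorem smul_orb {K : Subgroup M24} {g : M24} (hg : g ∈ K) (a : GolayPt) : g • orb K a = orb K a :=
  Finset.eq_of_subset_of_card_le (fun b hb => by
    obtain ⟨c, hc, rfl⟩ := Finset.mem_smul_finset.1 hb
    obtain ⟨k, hk, rfl⟩ := mem_orb.1 hc
    exact mem_orb.2 ⟨g * k, mul_mem hg hk, mul_smul ..⟩) (Finset.card_smul_finset ..).ge

theorem card_orb (K : Subgroup M24) (a : GolayPt) :
    (orb K a).card * Nat.card (K ⊓ stabilizer M24 a : Subgroup M24) = Nat.card K := by
  rw [orb, ← Set.ncard_eq_toFinset_card, ← index_stabilizer, ← (stabilizer K a).index_mul_card,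
    ← card_map_of_injective (K := stabilizer K a) (subtype_injective K), inf_comm, ← subgroupOf_map_subtype]
  rfl

end CfsgLib.MSub
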